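import Groth.Agent.LCZ.Supp
import Groth.Agent.SiteCoh.Terminal
import Mathlib.Topology.Sheaves.LocallySurjective

/-!
Short exact sequences of abelian sheaves from sections, and `H¹` as a cokernel of sections.
-/

set_option autoImplicit false
set_option linter.style.haveILetI false

universe u

open CategoryTheory CategoryTheory.Limits Opposite TopologicalSpace

namespace Groth.Agent.CurveFF

open Groth.Agent.SiteCoh Groth.Agent.LCZ

variable {X : TopCat.{u}}

/-- A sequence of sheaves that is left exact on sections and locally surjective is short exact. -/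
theorem shortExact_of_sections (S : ShortComplex (CohTop.Ab X))
    (hinj : ∀ U : Opens X, Function.Injective (S.f.hom.app (op U)))
    (hex : ∀ (U : Opens X) (s : S.X₂.obj.obj (op U)), S.g.hom.app (op U) s = 0 →
      ∃ r, S.f.hom.app (op U) r = s)
    (hsurj : ∀ (U : Opens X) (s : S.X₃.obj.obj (op U)), ∀ x ∈ U, ∃ V : Opens X, ∃ hV : V ≤ U,
      x ∈ V ∧ ∃ t, S.g.hom.app (op V) t = res S.X₃ hV s) :
    S.ShortExact := by
  have hmono' : Mono S.f.hom := by
    have : ∀ U : (Opens X)ᵒᵖ, Mono (S.f.hom.app U) := fun U =>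
      (AddCommGrpCat.mono_iff_injective _).2 (hinj U.unop)
    exact NatTrans.mono_of_mono_app _
  haveI : Mono S.f := Sheaf.Hom.mono_of_presheaf_mono _ _ S.f
  haveI : Epi S.g := by
    refine (TopCat.Sheaf.isLocallySurjective_iff_epi S.g).1 ?_
    rw [TopCat.Presheaf.isLocallySurjective_iff]
    intro U s x hx
    obtain ⟨V, hV, hxV, t, ht⟩ := hsurj U s x hx
    exact ⟨V, hV, ⟨t, ht⟩, hxV⟩
  refine ShortComplex.ShortExact.mk (S.exact_of_f_is_kernel ?_)
  refine KernelFork.IsLimit.ofι' S.f S.zero fun {A} k hk => ?_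
  have hk' : ∀ (U : Opens X) (a : A.obj.obj (op U)), ∃ r, S.f.hom.app (op U) r = k.hom.app (op U) a :=
    fun U a => hex U _ (ConcreteCategory.congr_hom
      (NatTrans.congr_app (congrArg (fun φ => φ.hom) hk) (op U)) a)
  choose l hl using hk'
  refine ⟨⟨{ app := fun U => AddCommGrpCat.ofHom (AddMonoidHom.mk' (l U.unop) fun a b => hinj U.unop (by
              rw [map_add, hl, hl, hl, map_add]))
             naturality := fun U V i => ?_ }⟩, ?_⟩
  · ext a
    change l V.unop (A.obj.map i a) = S.X₁.obj.map i (l U.unop a)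
    refine hinj V.unop ?_
    rw [hl, NatTrans.naturality_apply, NatTrans.naturality_apply, hl]
  · ext U a
    exact hl U.unop a

/-- For a short exact sequence with acyclic middle term, `H¹` of the first term is the cokernel
on global sections. -/
theorem natCard_H_one (S : ShortComplex (CohTop.Ab X)) (hS : S.ShortExact)
    (h2 : Subsingleton (Sheaf.H.{u} S.X₂ 1)) :
    Nat.card (Sheaf.H.{u} S.X₁ 1) =
      Nat.card (S.X₃.obj.obj (op ⊤) ⧸ (S.g.hom.app (op (⊤ : Opens X))).hom.range) := by
  let hT : IsTerminal (⊤ : Opens X) := isTerminalTop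
  let Z := constZ (Opens.grothendieckTopology X)
  let e₃ := constHom (Opens.grothendieckTopology X) hT S.X₃
  let δ : S.X₃.obj.obj (op ⊤) →+ Sheaf.H.{u} S.X₁ 1 :=
    AddMonoidHom.mk' (fun x => (Abelian.Ext.mk₀ (e₃.symm x)).comp hS.extClass (zero_add 1)) fun a b => by
      rw [map_add, Abelian.Ext.mk₀_add, Abelian.Ext.add_comp]
  have hsurj : Function.Surjective δ := fun y => by
    obtain ⟨x₃, hx₃⟩ := Abelian.Ext.covariant_sequence_exact₁ Z hS y (Subsingleton.elim _ _) (zero_add 1)
    obtain ⟨φ, rfl⟩ := (Abelian.Ext.mk₀_bijective _ _).2 x₃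
    exact ⟨e₃ φ, by
      show (Abelian.Ext.mk₀ (e₃.symm (e₃ φ))).comp hS.extClass (zero_add 1) = y
      rw [AddEquiv.symm_apply_apply]; exact hx₃⟩
  have hker : δ.ker = (S.g.hom.app (op (⊤ : Opens X))).hom.range := by
    ext x
    constructor
    · intro hx
      obtain ⟨x₂, hx₂⟩ := Abelian.Ext.covariant_sequence_exact₃ Z hS (Abelian.Ext.mk₀ (e₃.symm x)) (zero_add 1) hx
      obtain ⟨ψ, rfl⟩ := (Abelian.Ext.mk₀_bijective _ _).2 x₂
      rw [Abelian.Ext.mk₀_comp_mk₀] at hx₂
      have h := (Abelian.Ext.mk₀_bijective _ _).1 hx₂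
      refine ⟨constHom _ hT S.X₂ ψ, ?_⟩
      show S.g.hom.app (op ⊤) (constHom _ hT S.X₂ ψ) = x
      rw [← constHom_comp, h, AddEquiv.apply_symm_apply]
    · rintro ⟨t, rfl⟩
      show (Abelian.Ext.mk₀ (e₃.symm (S.g.hom.app (op ⊤) t))).comp hS.extClass (zero_add 1) = 0
      have h : e₃.symm (S.g.hom.app (op ⊤) t) = (constHom _ hT S.X₂).symm t ≫ S.g := by
        refine e₃.injective ?_
        rw [AddEquiv.apply_symm_apply, constHom_comp, AddEquiv.apply_symm_apply]
      rw [h, ← Abelian.Ext.mk₀_comp_mk₀, Abelian.Ext.comp_assoc _ _ _ (zero_add 0) (zero_add 1) (by omega),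
        hS.comp_extClass, Abelian.Ext.comp_zero]
  rw [← hker]
  exact (Nat.card_congr (QuotientAddGroup.quotientKerEquivOfSurjective δ hsurj).toEquiv).symm

end Groth.Agent.CurveFF
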