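import Groth.Prelude.Def_Curve
import Groth.Prelude.Def_W4bk4goldsch23FF
import Groth.Agent.WeilLib.FrobDeg
import Groth.Agent.SmLocalST.SmoothField
import Groth.Agent.RegLoc.Normal
import Groth.Agent.FunFld.Place

/-!
Local rings of a smooth proper curve and the places of its function field.
-/

set_option autoImplicit false
set_option backward.isDefEq.respectTransparency false
set_option linter.style.haveILetI false

universe u

open CategoryTheory AlgebraicGeometry TopologicalSpace Opposite

namespace Groth.Agent.CurveFF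

open Groth.Agent.WeilLib

variable {k : Type u} [Field k] {X : Scheme.{u}} (f : X ⟶ Spec (CommRingCat.of k))

/-- The structure map `k → O_x`. -/
noncomputable def stStr (x : X) : k →+* X.presheaf.stalk x :=
  (X.presheaf.germ ⊤ x trivial).hom.comp (secStr f ⊤)

theorem kStr_eq (x : X) (c : k) : kStr f x c = IsLocalRing.residue _ (stStr f x c) := rfl

theorem germ_secStr {W : X.Opens} {x : X} (hx : x ∈ W) (c : k) :
    X.presheaf.germ W x hx (secStr f W c) = stStr f x c := by
  have h : f.appLE ⊤ W le_top ≫ X.presheaf.germ W x hx = f.appLE ⊤ ⊤ le_top ≫ X.presheaf.germ ⊤ x trivial := by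
    rw [← f.appLE_map (U := ⊤) (V := ⊤) le_top (homOfLE (le_top : W ≤ ⊤)).op, Category.assoc, X.presheaf.germ_res]
  exact congrArg (fun φ : _ ⟶ X.presheaf.stalk x => φ.hom ((Scheme.ΓSpecIso (CommRingCat.of k)).inv c)) h

variable [IsIntegral X]

/-- The function field as a `k`-algebra. -/
@[reducible] noncomputable def ffAlg : Algebra k X.functionField := (stStr f (genericPoint X)).toAlgebra

theorem algebraMap_stStr (x : X) (c : k) :
    algebraMap (X.presheaf.stalk x) X.functionField (stStr f x c) = stStr f (genericPoint X) c := by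
  haveI : Nonempty (⊤ : X.Opens) := ⟨⟨x, trivial⟩⟩
  exact X.algebraMap_germ_eq_germToFunctionField (U := ⊤) trivial _

variable {f} (hC : Curve.IsSmoothProperCurve k X f)
include hC

theorem instProper : IsProper f := hC.1

theorem instLFT : LocallyOfFiniteType f := by haveI := hC.1; infer_instance

theorem pdim_generic : WeilCoh.pdim X (genericPoint X) = 1 := by
  rw [WeilCoh.pdim, genericPoint_closure, BMCoh.natDim_eq_of_homeomorph (Homeomorph.Set.univ _),
    WeilCoh.natDim, hC.2.2.2]
  rfl

theorem not_isClosed_generic : ¬ IsClosed ({genericPoint X} : Set X) := fun h => by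
  haveI := instLFT hC
  have := (pdim_eq_zero_iff f _).2 h
  rw [pdim_generic hC] at this
  exact one_ne_zero this

theorem isClosed_of_ne_generic {x : X} (hx : x ≠ genericPoint X) : IsClosed ({x} : Set X) := by
  haveI := instLFT hC
  refine (pdim_eq_zero_iff f x).1 ?_
  have := pdim_lt f ((genericPoint_spec X).specializes trivial : genericPoint X ⤳ x) hx
  rw [pdim_generic hC] at this
  omega

theorem ne_generic {x : X} (hx : IsClosed ({x} : Set X)) : x ≠ genericPoint X :=
  fun h => not_isClosed_generic hC (h ▸ hx)

theorem stalk_noetherian (x : X) : IsNoetherianRing (X.presheaf.stalk x) := by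
  haveI := instLFT hC
  haveI : IsLocallyNoetherian X := LocallyOfFiniteType.isLocallyNoetherian f
  infer_instance

theorem stalk_normal (x : X) : IsIntegrallyClosed (X.presheaf.stalk x) := by
  haveI : Smooth f := hC.2.1
  haveI := Groth.Agent.SmLocalST.isRegularLocalRing_stalk_of_smooth_field f x
  exact Groth.Agent.RegLoc.isIntegrallyClosed

theorem stalk_prime_eq {x : X} (hx : IsClosed ({x} : Set X)) (P : Ideal (X.presheaf.stalk x)) (hP : P.IsPrime) :
    P = ⊥ ∨ P = IsLocalRing.maximalIdeal _ := by
  have hemb := (X.fromSpecStalk x).isEmbedding.injective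
  by_cases he : X.fromSpecStalk x ⟨P, hP⟩ = x
  · right
    have := hemb (he.trans Scheme.fromSpecStalk_closedPoint.symm)
    exact congrArg PrimeSpectrum.asIdeal this
  · left
    -- all other primes map to the generic point
    have hgen : ∀ Q : PrimeSpectrum (X.presheaf.stalk x), X.fromSpecStalk x Q ≠ x →
        X.fromSpecStalk x Q = genericPoint X := fun Q hQ => by
      by_contra hne
      have hmem : X.fromSpecStalk x Q ⤳ x := by
        have := Set.mem_range_self (f := X.fromSpecStalk x) Q
        rwa [Scheme.range_fromSpecStalk] at this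
      exact hQ (((isClosed_of_ne_generic hC hne).closure_eq ▸ specializes_iff_mem_closure.1 hmem :
        x ∈ ({X.fromSpecStalk x Q} : Set X)).symm)
    have hb : X.fromSpecStalk x (⟨⊥, Ideal.isPrime_bot⟩ : PrimeSpectrum (X.presheaf.stalk x)) ≠ x := by
      intro e
      have h1 := hemb (e.trans Scheme.fromSpecStalk_closedPoint.symm)
      have hm : IsLocalRing.maximalIdeal (X.presheaf.stalk x) = ⊥ := (congrArg PrimeSpectrum.asIdeal h1).symm
      have hgr : genericPoint X ∈ Set.range (X.fromSpecStalk x) := by
        rw [Scheme.range_fromSpecStalk]; exact (genericPoint_spec X).specializes trivial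
      obtain ⟨Q, hQ⟩ := hgr
      have : Q = IsLocalRing.closedPoint _ := by
        refine PrimeSpectrum.ext (le_antisymm ?_ ?_)
        · exact IsLocalRing.le_maximalIdeal Q.2.ne_top
        · show IsLocalRing.maximalIdeal _ ≤ _
          rw [hm]; exact bot_le
      rw [this, Scheme.fromSpecStalk_closedPoint] at hQ
      exact ne_generic hC hx hQ
    exact congrArg PrimeSpectrum.asIdeal (hemb ((hgen ⟨P, hP⟩ he).trans (hgen ⟨⊥, Ideal.isPrime_bot⟩ hb).symm))

theorem stalk_not_isField {x : X} (hx : IsClosed ({x} : Set X)) : ¬ IsField (X.presheaf.stalk x) := by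
  intro hF
  have hgr : genericPoint X ∈ Set.range (X.fromSpecStalk x) := by
    rw [Scheme.range_fromSpecStalk]; exact (genericPoint_spec X).specializes trivial
  obtain ⟨Q, hQ⟩ := hgr
  have : Q = IsLocalRing.closedPoint _ := by
    refine PrimeSpectrum.ext (le_antisymm (IsLocalRing.le_maximalIdeal Q.2.ne_top) ?_)
    show IsLocalRing.maximalIdeal _ ≤ _
    rw [IsLocalRing.isField_iff_maximalIdeal_eq.1 hF]; exact bot_le
  rw [this, Scheme.fromSpecStalk_closedPoint] at hQ
  exact ne_generic hC hx hQ

theorem stalk_dvr {x : X} (hx : IsClosed ({x} : Set X)) : IsDiscreteValuationRing (X.presheaf.stalk x) := by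
  haveI := stalk_noetherian hC x
  have hF := stalk_not_isField hC hx
  have key : (IsIntegrallyClosed (X.presheaf.stalk x) ∧ ∃! P : Ideal (X.presheaf.stalk x), P ≠ ⊥ ∧ P.IsPrime) ↔
      IsDiscreteValuationRing (X.presheaf.stalk x) := (IsDiscreteValuationRing.TFAE (X.presheaf.stalk x) hF).out 3 0
  refine key.1 ⟨stalk_normal hC x, IsLocalRing.maximalIdeal _,
    ⟨fun h => hF (IsLocalRing.isField_iff_maximalIdeal_eq.2 h), (IsLocalRing.maximalIdeal.isMaximal _).isPrime⟩,
    fun P hP => (stalk_prime_eq hC hx P hP.2).resolve_left hP.1⟩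

/-- The place of a closed point. -/
noncomputable def placeOf (x : {x : X // IsClosed ({x} : Set X)}) :
    @FunFld.Place k X.functionField _ _ (ffAlg f) :=
  letI := ffAlg f
  haveI := stalk_dvr hC x.2
  ⟨(IsDiscreteValuationRing.maximalIdeal (X.presheaf.stalk x.1)).valuation X.functionField, fun c => by
    show _ ≤ _
    rw [RingHom.algebraMap_toAlgebra, ← algebraMap_stStr f x.1 c]
    exact IsDedekindDomain.HeightOneSpectrum.valuation_le_one _ _,
  fun w => by
    obtain ⟨π, hπ⟩ := IsDedekindDomain.HeightOneSpectrum.valuation_exists_uniformizer X.functionField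
      (IsDiscreteValuationRing.maximalIdeal (X.presheaf.stalk x.1))
    rcases eq_or_ne w 0 with rfl | hw
    · exact ⟨0, map_zero _⟩
    · refine ⟨π ^ (-WithZero.log w), ?_⟩
      rw [map_zpow₀, hπ, ← WithZero.exp_zsmul, smul_eq_mul, mul_neg, mul_one, neg_neg, WithZero.exp_log hw]⟩

theorem placeOf_le_one_iff (x : {x : X // IsClosed ({x} : Set X)}) (y : X.functionField) :
    (placeOf hC x).1 y ≤ 1 ↔ y ∈ Set.range (algebraMap (X.presheaf.stalk x.1) X.functionField) := by
  haveI := stalk_dvr hC x.2
  refine ⟨fun h => IsDiscreteValuationRing.exists_lift_of_le_one h, ?_⟩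
  rintro ⟨a, rfl⟩
  exact IsDedekindDomain.HeightOneSpectrum.valuation_le_one _ a

end Groth.Agent.CurveFF
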