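import Groth.Agent.CurveFF.Places
import Groth.Agent.FunFld.Basic
import Mathlib.AlgebraicGeometry.Geometrically.Irreducible
import Mathlib.FieldTheory.PrimitiveElement
import Mathlib.FieldTheory.Perfect
import Mathlib.RingTheory.Artinian.Ring

/-!
The function field of a geometrically irreducible smooth proper curve is a function field of one
variable.
-/

set_option autoImplicit false
set_option backward.isDefEq.respectTransparency false
set_option linter.style.haveILetI false

universe u

open CategoryTheory AlgebraicGeometry TopologicalSpace Opposite TensorProduct CategoryTheory.Limits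

namespace Groth.Agent.CurveFF

open Groth.Agent.WeilLib

variable {k : Type u} [Field k] {X : Scheme.{u}} [IsIntegral X] {f : X ⟶ Spec (CommRingCat.of k)}
  (hC : Curve.IsSmoothProperCurve k X f)
include hC

theorem exists_transcendental_finite :
    letI := ffAlg f
    ∃ x : X.functionField, Transcendental k x ∧
      FiniteDimensional (IntermediateField.adjoin k ({x} : Set X.functionField)) X.functionField := by
  letI := ffAlg f
  haveI := instLFT hC
  letI := (kStr f (genericPoint X)).toAlgebra
  let e : X.functionField ≃ₐ[k] X.residueField (genericPoint X) :=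
    AlgEquiv.ofRingEquiv (f := RingEquiv.ofBijective
      (X.residue (genericPoint X)).hom
      ⟨(X.residue (genericPoint X)).hom.injective, IsLocalRing.residue_surjective⟩) fun c => rfl
  haveI : Algebra.EssFiniteType k X.functionField :=
    (Algebra.EssFiniteType.iff_of_algEquiv e).2 (essFiniteType_residueField f _)
  have htr : Algebra.trdeg k X.functionField = 1 := by
    have h := (exists_pdim_eq_trd f (genericPoint X)).1
    rw [pdim_generic hC, Nat.cast_one] at h
    exact e.trdeg_eq.trans h
  obtain ⟨s, hs⟩ := exists_isTranscendenceBasis k X.functionField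
  have hcard := hs.cardinalMk_eq_trdeg.trans htr
  obtain ⟨hsub, ⟨i⟩⟩ := Cardinal.eq_one_iff_unique.1 hcard
  refine ⟨i.1, hs.1.transcendental i, ?_⟩
  have halg := hs.isAlgebraic_field
  have hr : Set.range (Subtype.val : s → X.functionField) = {i.1} := by
    ext z
    exact ⟨fun ⟨j, hj⟩ => hj ▸ congrArg Subtype.val (hsub.elim j i), fun hz => ⟨i, hz.symm⟩⟩
  rw [hr] at halg
  haveI := Algebra.EssFiniteType.of_comp k (IntermediateField.adjoin k ({i.1} : Set X.functionField))
    X.functionField
  exact Algebra.finite_of_essFiniteType_of_isAlgebraic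

theorem mem_constants [PerfectField k] [GeometricallyIrreducible f] {y : X.functionField}
    (hy : letI := ffAlg f; IsAlgebraic k y) :
    letI := ffAlg f
    y ∈ Set.range (algebraMap k X.functionField) := by
  classical
  letI := ffAlg f
  haveI : Nonempty (⊤ : X.Opens) := ⟨⟨genericPoint X, trivial⟩⟩
  let L := IntermediateField.adjoin k ({y} : Set X.functionField)
  haveI : FiniteDimensional k L := IntermediateField.adjoin.finiteDimensional hy.isIntegral
  have hsec : ∀ z : L, ∃ s : Γ(X, ⊤), X.germToFunctionField ⊤ s = (z : X.functionField) := fun z =>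
    exists_section hC ⊤ _ fun x _ =>
      mem_stalk_of_isAlgebraic hC ((Algebra.IsIntegral.isIntegral z).map L.val) x
  choose φ₀ hφ₀ using hsec
  have hinj := X.germToFunctionField_injective (⊤ : X.Opens)
  let φ : L →+* Γ(X, ⊤) :=
    { toFun := φ₀
      map_one' := hinj (by rw [hφ₀, map_one]; rfl)
      map_mul' := fun a b => hinj (by rw [hφ₀, map_mul, hφ₀, hφ₀]; rfl)
      map_zero' := hinj (by rw [hφ₀, map_zero]; rfl)
      map_add' := fun a b => hinj (by rw [hφ₀, map_add, hφ₀, hφ₀]; rfl) }
  have hφ : φ.comp (algebraMap k L) = secStr f ⊤ := RingHom.ext fun c => hinj ((hφ₀ _).trans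
    (germ_secStr f (W := ⊤) (x := genericPoint X) trivial c).symm)
  let g : X ⟶ Spec (CommRingCat.of L) := X.toSpecΓ ≫ Spec.map (CommRingCat.ofHom φ)
  let M := AlgebraicClosure k
  let a : Spec (CommRingCat.of M) ⟶ Spec (CommRingCat.of k) :=
    Spec.map (CommRingCat.ofHom (algebraMap k M))
  let b : Spec (CommRingCat.of L) ⟶ Spec (CommRingCat.of k) :=
    Spec.map (CommRingCat.ofHom (algebraMap k L))
  have hgb : g ≫ b = f := by
    simp only [g, b, Category.assoc, ← Spec.map_comp, ← CommRingCat.ofHom_comp, hφ]
    refine ext_of_isAffine ?_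
    rw [Scheme.Hom.comp_appTop, Scheme.toSpecΓ_appTop,
      ← cancel_epi (Scheme.ΓSpecIso (CommRingCat.of k)).inv, ← Scheme.ΓSpecIso_inv_naturality_assoc,
      Iso.inv_hom_id, Category.comp_id]
    ext c
    simp [secStr, Scheme.Hom.appLE, Scheme.Hom.appTop, Scheme.Hom.app]
  haveI : IrreducibleSpace ↥(pullback a (g ≫ b)) := by
    rw [hgb]
    exact GeometricallyIrreducible.geometrically_irreducibleSpace (f := f) _ _ _
      (IsPullback.of_hasPullback a f).flip
  let h : pullback a (g ≫ b) ⟶ Spec (CommRingCat.of (M ⊗[k] L)) :=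
    (pullbackLeftPullbackSndIso a b g).inv ≫ pullback.fst _ _ ≫ (pullbackSpecIso k M L).hom
  have hh : Function.Surjective h := fun w => by
    obtain ⟨v, hv⟩ := (ConcreteCategory.bijective_of_isIso (pullbackSpecIso k M L).hom.base).2 w
    obtain ⟨z, hz, -⟩ := Scheme.Pullback.exists_preimage_pullback (f := pullback.snd a b) (g := g) v
      (genericPoint X) (Subsingleton.elim _ _)
    obtain ⟨t, ht⟩ := (ConcreteCategory.bijective_of_isIso (pullbackLeftPullbackSndIso a b g).inv.base).2 z
    exact ⟨t, by simp only [h, Scheme.Hom.comp_apply]; rw [ht, hz, hv]⟩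
  haveI : IsArtinianRing (M ⊗[k] L) := IsArtinianRing.of_finite M (M ⊗[k] L)
  have hnil : (nilradical (M ⊗[k] L)).IsPrime := by
    refine PrimeSpectrum.irreducibleSpace_iff_isPrime_nilradical.1 ?_
    have := (IrreducibleSpace.isIrreducible_univ ↥(pullback a (g ≫ b))).image h h.continuous.continuousOn
    rw [Set.image_univ, hh.range_eq] at this
    exact (irreducibleSpace_def _).2 this
  have hsub : Subsingleton (L →ₐ[k] M) := ⟨fun σ τ => AlgHom.ext fun l => by
    let Φ : (L →ₐ[k] M) → (M ⊗[k] L) →ₐ[k] M := fun ρ =>
      Algebra.TensorProduct.lift (AlgHom.id k M) ρ fun _ _ => Commute.all _ _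
    have hker : ∀ ρ, nilradical (M ⊗[k] L) = RingHom.ker (Φ ρ).toRingHom := fun ρ => by
      haveI := RingHom.ker_isPrime (Φ ρ).toRingHom
      haveI := hnil
      haveI : (nilradical (M ⊗[k] L)).IsMaximal := IsArtinianRing.isMaximal_of_isPrime (R := M ⊗[k] L) _
      exact Ideal.IsMaximal.eq_of_le ‹_› (RingHom.ker_isPrime (Φ ρ).toRingHom).ne_top
        (nilradical_le_prime _)
    have hm : σ l ⊗ₜ[k] (1 : L) - 1 ⊗ₜ[k] l ∈ RingHom.ker (Φ σ).toRingHom := by
      simp [RingHom.mem_ker, Φ]
    rw [← hker σ, hker τ] at hm
    simpa [RingHom.mem_ker, Φ, sub_eq_zero] using hm⟩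
  have h1 : Module.finrank k L = 1 := by
    refine le_antisymm ?_ Module.finrank_pos
    rw [← AlgHom.card k L M]
    exact Fintype.card_le_one_iff_subsingleton.2 hsub
  have hbot : L = ⊥ := IntermediateField.finrank_eq_one_iff.1 h1
  have hy' : y ∈ (⊥ : IntermediateField k X.functionField) := hbot ▸ IntermediateField.mem_adjoin_simple_self k y
  exact IntermediateField.mem_bot.1 hy'

/-- The function field of a geometrically irreducible curve over a perfect field. -/
theorem isFunctionField [PerfectField k] [GeometricallyIrreducible f] :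
    @FunFld.IsFunctionField k X.functionField _ _ (ffAlg f) :=
  ⟨exists_transcendental_finite hC, fun _ => mem_constants hC⟩

end Groth.Agent.CurveFF
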