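import Groth.Agent.CurveFF.Places
import Groth.Agent.CurveFF.ShortExact
import Groth.Agent.SiteCoh.Cartan
import Groth.Agent.FunFld.Weil
import Groth.Prelude.Def_Coh
import Mathlib.FieldTheory.Finiteness

/-!
`H¹(X, O_X)` of a smooth proper curve is the repartition quotient `𝔸/(𝔸(0) + K)` of its function
field, by the flasque resolution `0 → O → K → ⨁ K/O_x → 0`.
-/

set_option autoImplicit false
set_option backward.isDefEq.respectTransparency false
set_option linter.style.haveILetI false

universe u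

open CategoryTheory AlgebraicGeometry TopologicalSpace Opposite

namespace Groth.Agent.CurveFF

open Groth.Agent.WeilLib Groth.Agent.SiteCoh Groth.Agent.LCZ

variable {k : Type u} [Field k] {X : Scheme.{u}} [IsIntegral X]

theorem generic_mem {U : X.Opens} {x : X} (hx : x ∈ U) : genericPoint X ∈ U :=
  ((genericPoint_spec X).mem_open_set_iff U.2).2 (by simpa using ⟨x, hx⟩)

variable (X) in
/-- The presheaf of the constant sheaf `K`. -/
noncomputable def kPre : TopCat.Presheaf AddCommGrpCat.{u} X.toTopCat where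
  obj U := AddCommGrpCat.of (PLift (genericPoint X ∈ U.unop) → X.functionField)
  map {U V} i := AddCommGrpCat.ofHom
    (AddMonoidHom.mk' (fun φ h => φ ⟨i.unop.le h.down⟩) fun _ _ => rfl)
  map_id _ := rfl
  map_comp _ _ := rfl

theorem kPre_isSheaf : (kPre X).IsSheaf := by
  refine (TopCat.Presheaf.isSheaf_iff_isSheafUniqueGluing _).2 fun ι U sf hsf => ?_
  have hc : ∀ (i j : ι) (hi : genericPoint X ∈ U i) (hj : genericPoint X ∈ U j),
      sf i ⟨hi⟩ = sf j ⟨hj⟩ := fun i j hi hj => congrFun (hsf i j) ⟨⟨hi, hj⟩⟩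
  refine ⟨fun h => sf (Opens.mem_iSup.1 h.down).choose ⟨(Opens.mem_iSup.1 h.down).choose_spec⟩,
    fun i => funext fun h => hc _ _ _ h.down, fun t ht => funext fun h => ?_⟩
  exact congrFun (ht (Opens.mem_iSup.1 h.down).choose) ⟨(Opens.mem_iSup.1 h.down).choose_spec⟩

variable (X) in
/-- The constant sheaf `K`. -/
noncomputable def kSheaf : CohTop.Ab X.toTopCat := ⟨kPre X, kPre_isSheaf⟩

instance : TopCat.Sheaf.IsFlasque (kSheaf X) where
  epi {U V} i := by
    classical
    refine (AddCommGrpCat.epi_iff_surjective _).2 fun φ => ⟨fun _ =>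
      if h : genericPoint X ∈ V.unop then φ ⟨h⟩ else 0, funext fun h => ?_⟩
    exact dif_pos h.down

theorem kSheaf_acyclic : Subsingleton (Sheaf.H.{u} (kSheaf X) 1) := by
  haveI : Subsingleton (CohSite.HU (kSheaf X) 1 (⊤ : Opens X)) := flasque_acyclic (kSheaf X) _ 0
  exact @Equiv.subsingleton _ _ (huTerminalEquiv (Opens.grothendieckTopology X) Limits.isTerminalTop (kSheaf X) 1).toEquiv this

/-- The local ring at `x` inside `K`. -/
noncomputable def oSub (x : X) : AddSubgroup X.functionField :=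
  (algebraMap (X.presheaf.stalk x) X.functionField).toAddMonoidHom.range

theorem mem_oSub {x : X} {a : X.functionField} :
    a ∈ oSub x ↔ a ∈ Set.range (algebraMap (X.presheaf.stalk x) X.functionField) := Iff.rfl

variable (X) in
/-- The closed points. -/
abbrev CP : Type u := {x : X // IsClosed ({x} : Set X)}

variable (X) in
/-- The principal parts at the closed points of an open. -/
noncomputable def ppSub (U : X.Opens) :
    AddSubgroup (∀ x : {x : CP X // x.1 ∈ U}, X.functionField ⧸ oSub x.1.1) where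
  carrier := {s | {x | s x ≠ 0}.Finite}
  zero_mem' := by simp
  add_mem' {a b} ha hb := (ha.union hb).subset fun x hx => by
    by_contra h
    simp only [Set.mem_union, Set.mem_ofPred_eq, not_or, not_not] at h
    exact hx (by simp [h.1, h.2])
  neg_mem' {a} ha := ha.subset fun x hx => by simpa using hx

variable (X) in
/-- The presheaf of principal parts. -/
noncomputable def ppPre : TopCat.Presheaf AddCommGrpCat.{u} X.toTopCat where
  obj U := AddCommGrpCat.of (ppSub X U.unop)
  map {U V} i := AddCommGrpCat.ofHom (AddMonoidHom.mk'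
    (fun s => ⟨fun x => s.1 ⟨x.1, i.unop.le x.2⟩,
      (s.2.preimage (f := fun x : {x : CP X // x.1 ∈ V.unop} => (⟨x.1, i.unop.le x.2⟩ : {x : CP X // x.1 ∈ U.unop}))
        fun a _ b _ h => Subtype.ext (congrArg (fun z => z.1) h))⟩)
    fun _ _ => rfl)
  map_id _ := rfl
  map_comp _ _ := rfl

theorem ppPre_isSheaf [NoetherianSpace X] : (ppPre X).IsSheaf := by
  classical
  refine (TopCat.Presheaf.isSheaf_iff_isSheafUniqueGluing _).2 fun ι U sf hsf => ?_
  have hc : ∀ (i j : ι) (x : CP X) (hi : x.1 ∈ U i) (hj : x.1 ∈ U j),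
      (sf i).1 ⟨x, hi⟩ = (sf j).1 ⟨x, hj⟩ := fun i j x hi hj =>
    congrFun (congrArg Subtype.val (hsf i j)) ⟨x, hi, hj⟩
  let s : ∀ x : {x : CP X // x.1 ∈ iSup U}, X.functionField ⧸ oSub x.1.1 := fun x =>
    (sf (Opens.mem_iSup.1 x.2).choose).1 ⟨x.1, (Opens.mem_iSup.1 x.2).choose_spec⟩
  have hfin : {x | s x ≠ 0}.Finite := by
    obtain ⟨t, ht⟩ := (NoetherianSpace.isCompact ((iSup U : Opens X) : Set X)).elim_finite_subcover
      (fun i => SetLike.coe (U i)) (fun i => (U i).2) (by simp)
    refine ((t.finite_toSet.biUnion fun i _ => (sf i).2.image fun x => x.1).preimage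
      (f := fun x : {x : CP X // x.1 ∈ iSup U} => x.1) Subtype.val_injective.injOn).subset fun x hx => ?_
    obtain ⟨i, hi, hxi⟩ := Set.mem_iUnion₂.1 (ht x.2)
    refine Set.mem_iUnion₂.2 ⟨i, hi, ⟨x.1, hxi⟩, ?_, rfl⟩
    intro h0
    exact hx ((hc (Opens.mem_iSup.1 x.2).choose i x.1 (Opens.mem_iSup.1 x.2).choose_spec hxi).trans h0)
  refine ⟨⟨s, hfin⟩, fun i => Subtype.ext (funext fun x => hc _ _ _ _ x.2),
    fun t ht => Subtype.ext (funext fun x => ?_)⟩
  exact congrFun (congrArg Subtype.val (ht (Opens.mem_iSup.1 x.2).choose)) ⟨x.1, (Opens.mem_iSup.1 x.2).choose_spec⟩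

variable (X) in
/-- The sheaf of principal parts. -/
noncomputable def ppSheaf [NoetherianSpace X] : CohTop.Ab X.toTopCat := ⟨ppPre X, ppPre_isSheaf⟩

variable (X) in
/-- The inclusion `O → K`. -/
noncomputable def oToK : Coh.toAb (Coh.structureModule X) ⟶ kSheaf X :=
  ⟨{ app := fun U => AddCommGrpCat.ofHom (AddMonoidHom.mk'
        (fun (s : Γ(X, U.unop)) (h : PLift (genericPoint X ∈ U.unop)) =>
          X.presheaf.germ U.unop (genericPoint X) h.down s)
        fun a b => funext fun h => map_add (X.presheaf.germ U.unop (genericPoint X) h.down).hom a b)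
     naturality := fun U V i => by
       ext s
       funext h
       exact TopCat.Presheaf.germ_res_apply X.presheaf i.unop _ h.down s }⟩

variable {f : X ⟶ Spec (CommRingCat.of k)} (hC : Curve.IsSmoothProperCurve k X f)
  (hK : @FunFld.IsFunctionField k X.functionField _ _ (ffAlg f))

include hC in
theorem instNoeth : NoetherianSpace X := by
  haveI := hC.1
  haveI : IsLocallyNoetherian X := LocallyOfFiniteType.isLocallyNoetherian f
  haveI : CompactSpace X := QuasiCompact.compactSpace_of_compactSpace f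
  haveI : IsNoetherian X := {}
  infer_instance

include hC hK in
theorem finite_not_mem (a : X.functionField) : {x : CP X | a ∉ oSub x.1}.Finite := by
  letI := ffAlg f
  refine ((Groth.Agent.FunFld.finite_support hK a).preimage (placeOf_injective hC).injOn).subset fun x hx => ?_
  show (placeOf hC x).ord a ≠ 0
  intro h0
  refine hx ((placeOf_le_one_iff hC x a).1 ?_)
  rcases eq_or_ne a 0 with rfl | ha
  · simp
  · exact (Groth.Agent.FunFld.ord_nonneg_iff _ ha).1 h0.ge

/-- The map `K → ⨁ K/O_x`. -/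
noncomputable def kToPP [NoetherianSpace X] : kSheaf X ⟶ ppSheaf X :=
  ⟨{ app := fun U => AddCommGrpCat.ofHom (AddMonoidHom.mk'
        (fun φ => (⟨fun x => QuotientAddGroup.mk (φ ⟨generic_mem x.2⟩), by
          by_cases hη : genericPoint X ∈ U.unop
          · refine ((finite_not_mem hC hK (φ ⟨hη⟩)).preimage Subtype.val_injective.injOn).subset fun x hx => ?_
            exact fun hmem => hx ((QuotientAddGroup.eq_zero_iff _).2 hmem)
          · exact Set.Subsingleton.finite fun x _ => absurd (generic_mem x.2) hη⟩ : ppSub X U.unop))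
        fun _ _ => rfl)
     naturality := fun _ _ _ => rfl }⟩

/-- The sequence `O → K → ⨁ K/O_x`. -/
noncomputable def curveSeq [NoetherianSpace X] : ShortComplex (CohTop.Ab X.toTopCat) :=
  ShortComplex.mk (oToK X) (kToPP hC hK) (by
    ext U s
    refine Subtype.ext (funext fun x => (QuotientAddGroup.eq_zero_iff _).2 ?_)
    exact ⟨X.presheaf.germ U.unop x.1.1 x.2 s,
      (TopCat.Presheaf.germ_stalkSpecializes_apply X.presheaf x.2 _ s)⟩)

theorem curveSeq_shortExact [NoetherianSpace X] : (curveSeq hC hK).ShortExact := by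
  classical
  refine shortExact_of_sections _ (fun U s t h => ?_) (fun U φ h => ?_) (fun U s x hx => ?_)
  · exact TopCat.Presheaf.section_ext X.sheaf U s t fun y hy => congrArg (X.presheaf.germ U y hy)
      (germ_injective_of_isIntegral X (genericPoint X) (generic_mem hy) (congrFun h ⟨generic_mem hy⟩))
  · by_cases hη : genericPoint X ∈ U
    · have hmem : ∀ x ∈ U, φ ⟨hη⟩ ∈ Set.range (algebraMap (X.presheaf.stalk x) X.functionField) := by
        intro x hx
        by_cases hxg : x = genericPoint X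
        · subst hxg
          refine ⟨φ ⟨hη⟩, ?_⟩
          show (X.presheaf.stalkSpecializes (specializes_rfl : genericPoint X ⤳ genericPoint X)).hom _ = _
          rw [TopCat.Presheaf.stalkSpecializes_refl]; rfl
        · exact (QuotientAddGroup.eq_zero_iff _).1
            (congrFun (congrArg Subtype.val h) ⟨⟨x, isClosed_of_ne_generic hC hxg⟩, hx⟩)
      obtain ⟨r, hr⟩ := @exists_section k _ X f _ hC U ⟨⟨_, hη⟩⟩ _ hmem
      exact ⟨r, funext fun _ => hr⟩
    · exact ⟨0, funext fun h' => absurd h'.down hη⟩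
  · obtain ⟨a, ha⟩ : ∃ a : X.functionField, ∀ h : IsClosed ({x} : Set X),
        QuotientAddGroup.mk a = s.1 ⟨⟨x, h⟩, hx⟩ := by
      by_cases h : IsClosed ({x} : Set X)
      · exact ⟨(s.1 ⟨⟨x, h⟩, hx⟩).out, fun _ => QuotientAddGroup.out_eq' _⟩
      · exact ⟨0, fun h' => absurd h' h⟩
    let B : Set X := ((fun y => y.1.1) '' {y | s.1 y ≠ 0} ∪ (fun y : CP X => y.1) '' {y | a ∉ oSub y.1}) \ {x}
    have hBf : B.Finite := ((s.2.image _).union ((finite_not_mem hC hK a).image _)).subset Set.sdiff_subset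
    have hBc : IsClosed B := by
      rw [← Set.biUnion_of_singleton B]
      refine hBf.isClosed_biUnion fun y hy => ?_
      obtain (⟨z, -, rfl⟩ | ⟨z, -, rfl⟩) := hy.1
      exacts [z.1.2, z.2]
    refine ⟨U ⊓ ⟨Bᶜ, hBc.isOpen_compl⟩, inf_le_left, ⟨hx, fun h => h.2 rfl⟩, fun _ => a, ?_⟩
    refine Subtype.ext (funext fun y => ?_)
    show (QuotientAddGroup.mk a : X.functionField ⧸ oSub y.1.1) = s.1 ⟨y.1, y.2.1⟩
    by_cases hyx : y.1.1 = x
    · obtain ⟨⟨y, hyc⟩, hyU⟩ := y
      change y = x at hyx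
      subst hyx
      exact ha hyc
    · have hs0 : s.1 ⟨y.1, y.2.1⟩ = 0 := by
        by_contra h0
        exact y.2.2 ⟨Or.inl ⟨_, h0, rfl⟩, hyx⟩
      rw [hs0, QuotientAddGroup.eq_zero_iff]
      by_contra h0
      exact y.2.2 ⟨Or.inr ⟨_, h0, rfl⟩, hyx⟩

include hC hK in
/-- `#H¹(X, O_X) = q ^ genus`. -/
theorem natCard_HH_one [Finite k] :
    Nat.card (Coh.HH X (Coh.structureModule X) 1) =
      Nat.card k ^ @FunFld.genus k X.functionField _ _ (ffAlg f) := by
  classical
  haveI := instNoeth hC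
  letI := ffAlg f
  rw [show Nat.card (Coh.HH X (Coh.structureModule X) 1) = Nat.card (Sheaf.H.{u} (curveSeq hC hK).X₁ 1) from rfl,
    natCard_H_one _ (curveSeq_shortExact hC hK) kSheaf_acyclic]
  let Ψ : _root_.FunFld.adele k X.functionField →+ ppSub X ⊤ :=
    AddMonoidHom.mk' (fun a => ⟨fun x => QuotientAddGroup.mk (a.1 (placeOf hC x.1)),
      ((Filter.eventually_cofinite.1 a.2).preimage
        (f := fun x : {x : CP X // x.1 ∈ (⊤ : X.Opens)} => placeOf hC x.1)
        ((placeOf_injective hC).comp Subtype.val_injective).injOn).subset fun x hx hle =>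
          hx ((QuotientAddGroup.eq_zero_iff _).2 ((placeOf_le_one_iff hC _ _).1 hle))⟩) fun _ _ => rfl
  let R : AddSubgroup (ppSub X ⊤) := ((curveSeq hC hK).g.hom.app (op (⊤ : Opens X))).hom.range
  let Φ := (QuotientAddGroup.mk' R).comp Ψ
  have hmem : ∀ (x : CP X) (b : X.functionField), b ∈ oSub x.1 ↔ (placeOf hC x).1 b ≤ 1 :=
    fun x b => mem_oSub.trans (placeOf_le_one_iff hC x b).symm
  have hΦ : Function.Surjective Φ := by
    refine (QuotientAddGroup.mk'_surjective R).comp fun s => ?_
    let b : CP X → X.functionField := fun x =>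
      if s.1 ⟨x, trivial⟩ = 0 then 0 else (s.1 ⟨x, trivial⟩).out
    have hb : ∀ x, QuotientAddGroup.mk (b x) = s.1 ⟨x, trivial⟩ := fun x => by
      simp only [b]; split_ifs with h
      · rw [h]; rfl
      · exact QuotientAddGroup.out_eq' _
    refine ⟨⟨fun P => b ((pointEquiv hC).symm P), Filter.eventually_cofinite.2 ((s.2.image
      fun x => placeOf hC x.1).subset fun P hP => ?_)⟩, Subtype.ext (funext fun x => ?_)⟩
    · refine ⟨⟨(pointEquiv hC).symm P, trivial⟩, fun h0 => hP ?_, (pointEquiv hC).apply_symm_apply P⟩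
      show P.1 (b _) ≤ 1
      simp [b, h0]
    · show QuotientAddGroup.mk (b ((pointEquiv hC).symm (pointEquiv hC x.1))) = _
      rw [Equiv.symm_apply_apply, hb]
  have hker : Φ.ker = (_root_.FunFld.ADK (0 : _root_.FunFld.Divisor k X.functionField)).toAddSubgroup := by
    ext a
    rw [AddMonoidHom.mem_ker, show Φ a = QuotientAddGroup.mk' R (Ψ a) from rfl, QuotientAddGroup.mk'_apply,
      QuotientAddGroup.eq_zero_iff]
    constructor
    · rintro ⟨φ, hφ⟩
      refine Submodule.mem_sup.2 ⟨fun P => a.1 P - φ ⟨trivial⟩, fun P => ?_, _, ⟨φ ⟨trivial⟩, rfl⟩,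
        funext fun P => sub_add_cancel _ _⟩
      obtain ⟨x, rfl⟩ := exists_placeOf_eq hC P
      rw [Finsupp.coe_zero, Pi.zero_apply, WithZero.exp_zero, ← hmem]
      exact (QuotientAddGroup.eq_iff_sub_mem.1 (congrFun (congrArg Subtype.val hφ) ⟨x, trivial⟩).symm)
    · intro ha
      obtain ⟨b, hb, -, ⟨c, rfl⟩, hsum⟩ := Submodule.mem_sup.1 ha
      refine ⟨fun _ => c, Subtype.ext (funext fun x => (QuotientAddGroup.eq_iff_sub_mem.2 ?_).symm)⟩
      have hxe : a.1 (placeOf hC x.1) - c = b (placeOf hC x.1) :=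
        sub_eq_iff_eq_add.2 (congrFun hsum _).symm
      show a.1 (placeOf hC x.1) - c ∈ oSub x.1.1
      rw [hxe, hmem]
      simpa using hb (placeOf hC x.1)
  obtain ⟨hfin, hrank⟩ := Groth.Agent.FunFld.adele_idx hK (0 : _root_.FunFld.Divisor k X.functionField)
  rw [Groth.Agent.FunFld.delta_zero hK, sub_zero, Nat.cast_inj] at hrank
  rw [← hrank, ← Module.natCard_eq_pow_finrank]
  exact Nat.card_congr ((QuotientAddGroup.quotientKerEquivOfSurjective Φ hΦ).symm.toEquiv.trans
    (QuotientAddGroup.quotientAddEquivOfEq hker).toEquiv)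

end Groth.Agent.CurveFF
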