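import Groth.Agent.CurveFF.Basic
import Groth.Agent.SepLocal.Dominated
import Mathlib.AlgebraicGeometry.ValuativeCriterion

/-!
Closed points of a smooth proper curve are the places of its function field, residue degrees are the
degrees of the places, and regular functions are the functions integral at all places.
-/

set_option autoImplicit false
set_option backward.isDefEq.respectTransparency false
set_option linter.style.haveILetI false

universe u

open CategoryTheory AlgebraicGeometry TopologicalSpace Opposite


namespace Groth.Agent.CurveFF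

open Groth.Agent.WeilLib Groth.Agent.SepLocal

variable {k : Type u} [Field k] {X : Scheme.{u}} (f : X ⟶ Spec (CommRingCat.of k))

theorem fromSpecStalk_comp_str (x : X) :
    X.fromSpecStalk x ≫ f = Spec.map (CommRingCat.ofHom (stStr f x)) := by
  refine ext_of_isAffine ?_
  rw [Scheme.Hom.comp_appTop, Scheme.fromSpecStalk_appTop,
    ← cancel_epi (Scheme.ΓSpecIso (CommRingCat.of k)).inv]
  rw [← Scheme.ΓSpecIso_inv_naturality]
  simp only [stStr, secStr, Scheme.Hom.appTop, Scheme.Hom.appLE, Scheme.Hom.app]
  ext c
  simp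
  rfl

/-- The degree over `k` of the residue field. -/
noncomputable def rdeg (x : X) : ℕ :=
  letI := (kStr f x).toAlgebra
  Module.finrank k (X.residueField x)

variable [IsIntegral X] {f} (hC : Curve.IsSmoothProperCurve k X f)
include hC

theorem instSep : X.IsSeparated := by
  haveI := hC.1
  refine ⟨?_⟩
  rw [← Limits.terminal.comp_from f]
  infer_instance

/-- Every place is centred at a closed point. -/
theorem exists_placeOf_eq (P : @FunFld.Place k X.functionField _ _ (ffAlg f)) :
    ∃ x, placeOf hC x = P := by
  letI := ffAlg f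
  have hsq : CommSq (X.fromSpecStalk (genericPoint X))
      (Spec.map (CommRingCat.ofHom (algebraMap P.O X.functionField))) f
      (Spec.map (CommRingCat.ofHom (algebraMap k P.O))) := ⟨by
    rw [fromSpecStalk_comp_str, ← Spec.map_comp]; rfl⟩
  let S : ValuativeCommSq f :=
    { R := P.O
      K := X.functionField
      i₁ := X.fromSpecStalk (genericPoint X)
      i₂ := Spec.map (CommRingCat.ofHom (algebraMap k P.O))
      commSq := hsq }
  have hv : ValuativeCriterion f := by
    have h := hC.1
    rw [IsProper.eq_valuativeCriterion] at h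
    exact h.1.1.1
  obtain ⟨⟨⟨l, hl, -⟩⟩⟩ := hv.existence S
  let g : CommRingCat.of P.O ⟶ X.functionField := CommRingCat.ofHom (algebraMap P.O X.functionField)
  have hg := stalkClosedPointTo_comp (R := CommRingCat.of P.O) l g hl
  have hle : ∀ a, P.1 (algebraMap (X.presheaf.stalk (l (IsLocalRing.closedPoint P.O))) X.functionField a) ≤ 1 :=
    fun a => by
      rw [show algebraMap _ X.functionField a = g (Scheme.stalkClosedPointTo l a) from
        ConcreteCategory.congr_hom hg.symm a]
      exact (Scheme.stalkClosedPointTo l a).2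
  generalize l (IsLocalRing.closedPoint P.O) = x at hle
  by_cases hx : x = genericPoint X
  · exfalso
    subst hx
    obtain ⟨y, hy⟩ := P.2.2 (WithZero.exp 1)
    have : P.1 y ≤ 1 := by
      have e : (toK X (genericPoint X)).hom y = y := by
        show (X.presheaf.stalkSpecializes (specializes_rfl : genericPoint X ⤳ genericPoint X)).hom y = y
        rw [TopCat.Presheaf.stalkSpecializes_refl]; rfl
      calc P.1 y = P.1 ((toK X (genericPoint X)).hom y) := congrArg _ e.symm
        _ ≤ 1 := hle y
    rw [hy, ← WithZero.exp_zero, WithZero.exp_le_exp] at this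
    omega
  · refine ⟨⟨x, isClosed_of_ne_generic hC hx⟩, Groth.Agent.FunFld.eq_of_le fun y hy => ?_⟩
    obtain ⟨a, rfl⟩ := (placeOf_le_one_iff hC _ y).1 hy
    exact hle a

theorem placeOf_injective : Function.Injective (placeOf hC) := by
  intro x y h
  haveI := instSep hC
  refine Subtype.ext (eq_of_dominated x.1 y.1
    (LocalSubring.range (algebraMap (X.presheaf.stalk x.1) X.functionField)) le_rfl (le_of_eq ?_))
  refine LocalSubring.toSubring_injective (SetLike.ext fun z => ?_)
  have h1 := placeOf_le_one_iff hC x z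
  have h2 := placeOf_le_one_iff hC y z
  rw [h] at h1
  exact h2.symm.trans h1

/-- Closed points are the places of the function field. -/
noncomputable def pointEquiv :
    {x : X // IsClosed ({x} : Set X)} ≃ @FunFld.Place k X.functionField _ _ (ffAlg f) :=
  Equiv.ofBijective (placeOf hC) ⟨placeOf_injective hC, exists_placeOf_eq hC⟩

theorem deg_placeOf (x : {x : X // IsClosed ({x} : Set X)}) : (letI := ffAlg f; (placeOf hC x).deg) = rdeg f x.1 := by
  letI := ffAlg f
  let P := placeOf hC x
  let φ : X.presheaf.stalk x.1 →+* P.O :=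
    (algebraMap (X.presheaf.stalk x.1) X.functionField).codRestrict P.O
      fun a => (placeOf_le_one_iff hC x _).2 ⟨a, rfl⟩
  have hφ : Function.Bijective φ := by
    refine ⟨fun a b h => IsFractionRing.injective (X.presheaf.stalk x.1) X.functionField
      (congrArg Subtype.val h), fun y => ?_⟩
    obtain ⟨a, ha⟩ := (placeOf_le_one_iff hC x _).1 y.2
    exact ⟨a, Subtype.ext ha⟩
  let E := IsLocalRing.ResidueField.mapEquiv (RingEquiv.ofBijective φ hφ)
  letI : Algebra k (IsLocalRing.ResidueField (X.presheaf.stalk x.1)) := (kStr f x.1).toAlgebra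
  refine (LinearEquiv.finrank_eq (AlgEquiv.ofRingEquiv (f := E) fun c => ?_).toLinearEquiv).symm
  refine congrArg (IsLocalRing.residue P.O) (Subtype.ext ?_)
  exact algebraMap_stStr f x.1 c

/-- A function lying in all local rings over an open is a section. -/
theorem exists_section (U : X.Opens) [Nonempty U] (y : X.functionField)
    (h : ∀ x ∈ U, y ∈ Set.range (algebraMap (X.presheaf.stalk x) X.functionField)) :
    ∃ s, X.germToFunctionField U s = y := by
  classical
  have key : ∀ i : U, ∃ (V : X.Opens) (_ : i.1 ∈ V) (_ : V ≤ U) (s : Γ(X, V)) (hn : Nonempty V),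
      @Scheme.germToFunctionField X _ V hn s = y := fun ⟨x, hx⟩ => by
    obtain ⟨a, rfl⟩ := h x hx
    obtain ⟨W, hW, s, rfl⟩ := X.presheaf.exists_germ_eq (x := x) a
    haveI : Nonempty (W ⊓ U : X.Opens) := ⟨⟨x, hW, hx⟩⟩
    refine ⟨W ⊓ U, ⟨hW, hx⟩, inf_le_right, X.presheaf.map (homOfLE inf_le_left).op s, inferInstance, ?_⟩
    rw [← X.algebraMap_germ_eq_germToFunctionField (U := W ⊓ U) (x := x) ⟨hW, hx⟩]
    congr 1
    exact TopCat.Presheaf.germ_res_apply X.presheaf _ _ _ s
  choose V hV hVU s hn hs using key
  haveI := hn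
  obtain ⟨t, ht, -⟩ := X.sheaf.existsUnique_gluing' V U (fun i => homOfLE (hVU i))
    (fun x hx => Opens.mem_iSup.2 ⟨⟨x, hx⟩, hV ⟨x, hx⟩⟩) s fun i j => by
      haveI : Nonempty (V i ⊓ V j : X.Opens) :=
        ⟨⟨genericPoint X, ((genericPoint_spec X).mem_open_set_iff (V i).2).2
          (by simpa using ⟨i.1, hV i⟩), ((genericPoint_spec X).mem_open_set_iff (V j).2).2
          (by simpa using ⟨j.1, hV j⟩)⟩⟩
      refine X.germToFunctionField_injective (V i ⊓ V j) ?_
      refine (TopCat.Presheaf.germ_res_apply X.presheaf _ _ _ _).trans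
        ((hs i).trans ((hs j).symm.trans ?_))
      exact (TopCat.Presheaf.germ_res_apply X.presheaf _ _ _ _).symm
  refine ⟨t, ?_⟩
  obtain ⟨⟨x, hx⟩⟩ := ‹Nonempty U›
  rw [← hs ⟨x, hx⟩, ← ht ⟨x, hx⟩]
  exact (TopCat.Presheaf.germ_res_apply X.presheaf _ _ _ t).symm

theorem mem_stalk_of_isAlgebraic {y : X.functionField}
    (hy : letI := ffAlg f; IsIntegral k y) (x : X) :
    y ∈ Set.range (algebraMap (X.presheaf.stalk x) X.functionField) := by
  letI := ffAlg f
  haveI := stalk_normal hC x
  obtain ⟨p, hp, hev⟩ := hy
  refine IsIntegrallyClosed.isIntegral_iff.1 ⟨p.map (stStr f x), hp.map _, ?_⟩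
  rw [Polynomial.eval₂_map, show (algebraMap (X.presheaf.stalk x) X.functionField).comp (stStr f x)
    = algebraMap k X.functionField from RingHom.ext (algebraMap_stStr f x)]
  exact hev

end Groth.Agent.CurveFF
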