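import Groth.Agent.CurveFF.FunctionField
import Groth.Agent.CurveFF.H1
import Groth.Agent.FunFld.RiemannHyp
import Groth.Prelude.Def_SgaExt
import Mathlib.AlgebraicGeometry.ResidueField
import Mathlib.FieldTheory.Finite.GaloisField

/-!
Point counts of a curve over a finite field are the sums `∑_{deg P ∣ n} deg P`; the Weil bounds.
-/

set_option autoImplicit false
set_option backward.isDefEq.respectTransparency false
set_option linter.style.haveILetI false

universe u

open CategoryTheory AlgebraicGeometry TopologicalSpace Opposite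

namespace Groth.Agent.CurveFF

open Groth.Agent.WeilLib Groth.Agent.FunFld

variable {k : Type u} [Field k] {X : Scheme.{u}} (f : X ⟶ Spec (CommRingCat.of k))
  (k' : Type u) [Field k'] [Algebra k k']

/-- Embeddings of the residue field at `x` into `k'` over `k`. -/
def ResHom (x : X) : Type u := {φ : X.residueField x ⟶ CommRingCat.of k' // φ.hom.comp (kStr f x) = algebraMap k k'}

theorem natCard_resHom_eq (x : X) :
    Nat.card (ResHom f k' x) =
      Nat.card (letI := (kStr f x).toAlgebra; X.residueField x →ₐ[k] k') := by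
  letI := (kStr f x).toAlgebra
  exact Nat.card_congr
    { toFun := fun φ => { φ.1.hom with commutes' := RingHom.congr_fun φ.2 }
      invFun := fun φ => ⟨CommRingCat.ofHom φ.toRingHom, RingHom.ext φ.commutes⟩
      left_inv := fun _ => rfl
      right_inv := fun _ => rfl }

theorem pointsEquiv_aux (x : X) (φ : X.residueField x ⟶ CommRingCat.of k') :
    (Spec.map φ ≫ X.fromSpecResidueField x) ≫ f = Spec.map (CommRingCat.ofHom (algebraMap k k')) ↔
      φ.hom.comp (kStr f x) = algebraMap k k' := by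
  rw [Scheme.fromSpecResidueField, Category.assoc, Category.assoc, fromSpecStalk_comp_str, ← Spec.map_comp,
    ← Spec.map_comp, Spec.map_injective.eq_iff]
  exact ⟨fun h => congrArg CommRingCat.Hom.hom h, fun h => CommRingCat.hom_ext h⟩

theorem pointsEquiv_iff (g : Spec (CommRingCat.of k') ⟶ X) :
    g ≫ f = Spec.map (CommRingCat.ofHom (algebraMap k k')) ↔
      (Scheme.SpecToEquivOfField k' X g).2.hom.comp (kStr f (Scheme.SpecToEquivOfField k' X g).1) =
        algebraMap k k' := by
  refine Iff.trans (Iff.of_eq ?_) (pointsEquiv_aux f k' _ _)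
  exact congrArg (fun h : Spec (CommRingCat.of k') ⟶ X => h ≫ f = _)
    ((Scheme.SpecToEquivOfField k' X).symm_apply_apply g).symm

/-- Points with values in `k'`. -/
noncomputable def pointsEquiv :
    {g : Spec (CommRingCat.of k') ⟶ X // g ≫ f = Spec.map (CommRingCat.ofHom (algebraMap k k'))} ≃
      Σ x : X, ResHom f k' x :=
  ((Scheme.SpecToEquivOfField k' X).subtypeEquiv
    (q := fun p : Σ x : X, (X.residueField x ⟶ CommRingCat.of k') =>
      p.2.hom.comp (kStr f p.1) = algebraMap k k') (pointsEquiv_iff f k')).trans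
    { toFun := fun p => ⟨p.1.1, p.1.2, p.2⟩
      invFun := fun p => ⟨⟨p.1, p.2.1⟩, p.2.2⟩
      left_inv := fun _ => rfl
      right_inv := fun _ => rfl }

variable [IsIntegral X] {f} (hC : Curve.IsSmoothProperCurve k X f)
  (hK : @FunFld.IsFunctionField k X.functionField _ _ (ffAlg f))
include hC hK

theorem isEmpty_resHom_generic [Finite k'] : IsEmpty (ResHom f k' (genericPoint X)) := by
  letI := ffAlg f
  refine ⟨fun ⟨φ, hφ⟩ => ?_⟩
  obtain ⟨x, hx, -⟩ := hK.1
  let ψ : X.functionField →ₐ[k] k' :=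
    { φ.hom.comp (X.residue (genericPoint X)).hom with commutes' := RingHom.congr_fun hφ }
  haveI : Finite X.functionField := Finite.of_injective ψ ψ.toRingHom.injective
  exact hx (IsIntegral.of_finite k x).isAlgebraic

theorem natCard_resHom [Finite k] [Finite k'] (c : CP X) :
    Nat.card (ResHom f k' c.1) =
      (letI := ffAlg f; if (placeOf hC c).deg ∣ Module.finrank k k' then (placeOf hC c).deg else 0) := by
  letI := ffAlg f
  letI := (kStr f c.1).toAlgebra
  rw [deg_placeOf hC c, natCard_resHom_eq, rdeg]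
  split_ifs with h
  · exact FiniteField.natCard_algHom_of_finrank_dvd h
  · haveI : IsEmpty (X.residueField c.1 →ₐ[k] k') :=
      ⟨fun φ => h (FiniteField.nonempty_algHom_iff_finrank_dvd.1 ⟨φ⟩)⟩
    exact Nat.card_of_isEmpty

theorem pointCount_eq [Finite k] [Finite k'] :
    SgaExt.pointCount f k' =
      @countN k X.functionField _ _ (ffAlg f) _ hK (Module.finrank k k') := by
  classical
  letI := ffAlg f
  set n := Module.finrank k k'
  have hn : 0 < n := Module.finrank_pos
  set s := (finite_places_deg_le hK n).toFinset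
  let A : _root_.FunFld.Place k X.functionField → Type u := fun P => ResHom f k' ((pointEquiv hC).symm P).1
  have hcard : ∀ P, Nat.card (A P) = if P.deg ∣ n then P.deg else 0 := fun P => by
    rw [natCard_resHom k' hC hK, show placeOf hC ((pointEquiv hC).symm P) = P from
      (pointEquiv hC).apply_symm_apply P]
  haveI hfin : ∀ P, Finite (A P) := fun P => by
    let c := (pointEquiv hC).symm P
    letI := (kStr f c.1).toAlgebra
    have hd : 0 < Module.finrank k (X.residueField c.1) := by
      have := deg_pos hK (placeOf hC c)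
      rwa [deg_placeOf hC c] at this
    haveI := Module.finite_of_finrank_pos hd
    haveI : Finite (X.residueField c.1) := Module.finite_of_finite k
    exact Finite.of_injective
      (fun (φ : A P) => (φ.1.hom : X.residueField c.1 → k'))
      fun a b h => Subtype.ext (CommRingCat.hom_ext (DFunLike.coe_injective h))
  have hsub : ∀ P, A P → P ∈ s := fun P a => by
    haveI : Nonempty (A P) := ⟨a⟩
    have h := Nat.card_pos (α := A P)
    rw [hcard] at h
    split_ifs at h with hd
    · exact (Set.Finite.mem_toFinset _).2 (Nat.le_of_dvd hn hd)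
    · omega
  have hclosed : ∀ x : X, ResHom f k' x → IsClosed ({x} : Set X) := fun x a =>
    isClosed_of_ne_generic hC fun e => (isEmpty_resHom_generic k' hC hK).false (e ▸ a)
  have e : {g : Spec (CommRingCat.of k') ⟶ X // g ≫ f = Spec.map (CommRingCat.ofHom (algebraMap k k'))} ≃
      Σ P : {P // P ∈ s}, A P.1 :=
    (pointsEquiv f k').trans ((Equiv.sigmaSubtypeEquivOfSubset _ _ hclosed).symm.trans
      (((Equiv.sigmaCongrLeft (pointEquiv hC).symm).symm).trans
        (Equiv.sigmaSubtypeEquivOfSubset A _ hsub).symm))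
  rw [SgaExt.pointCount, Nat.card_congr e, Nat.card_sigma, countN]
  rw [Finset.sum_coe_sort s fun P => Nat.card (A P)]
  exact Finset.sum_congr rfl fun P _ => hcard P

omit hK in
/-- The Weil conjectures for a curve. -/
theorem weil [Finite k] [GeometricallyIrreducible f] (g : ℕ)
    (hg : Nat.card (Coh.HH X (Coh.structureModule X) 1) = Nat.card k ^ g) :
    ∃ α : Fin (2 * g) → ℂ, (∀ i, IsIntegral ℤ (α i)) ∧ (∀ i, ‖α i‖ ^ 2 = Nat.card k) ∧
      (∃ σ : Equiv.Perm (Fin (2 * g)), ∀ i, α (σ i) * α i = Nat.card k) ∧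
      ∀ (k' : Type u) [Field k'] [Algebra k k'] [Finite k'],
        (SgaExt.pointCount f k' : ℂ) =
          (Nat.card k : ℂ) ^ Module.finrank k k' + 1 - ∑ i, α i ^ Module.finrank k k' := by
  haveI : Fintype k := Fintype.ofFinite k
  haveI : PerfectField k := PerfectField.ofFinite
  letI := ffAlg f
  have hK : FunFld.IsFunctionField k X.functionField := isFunctionField hC
  have hgg : g = FunFld.genus k X.functionField :=
    Nat.pow_right_injective Finite.one_lt_card (hg.symm.trans (natCard_HH_one hC hK))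
  subst hgg
  obtain ⟨α, hint, hα, hpair⟩ := zeta_roots hK
  refine ⟨α, hint, norm_roots hK hα hpair,
    ⟨Fin.revPerm, fun i => by rw [Fin.revPerm_apply, mul_comm, hpair]⟩, fun k' _ _ _ => ?_⟩
  rw [pointCount_eq k' hC hK, countN_of_numer hK α hα Module.finrank_pos.ne', add_comm (1 : ℂ)]

omit hK k' in
/-- The Hasse–Weil bound for a curve. -/
theorem weil_bound [Finite k] [GeometricallyIrreducible f] (g : ℕ)
    (hg : Nat.card (Coh.HH X (Coh.structureModule X) 1) = Nat.card k ^ g)
    (k' : Type u) [Field k'] [Algebra k k'] [Finite k'] :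
    |(SgaExt.pointCount f k' : ℝ) - ((Nat.card k : ℝ) ^ Module.finrank k k' + 1)| ≤
      2 * g * (Nat.card k : ℝ) ^ ((Module.finrank k k' : ℝ) / 2) := by
  obtain ⟨α, -, hnorm, -, hcount⟩ := weil hC g hg
  set n := Module.finrank k k'
  have hq : (0 : ℝ) ≤ Nat.card k := Nat.cast_nonneg _
  have hb : ∀ i, ‖α i ^ n‖ = (Nat.card k : ℝ) ^ ((n : ℝ) / 2) := fun i => by
    rw [norm_pow, ← hnorm i, ← Real.rpow_natCast (‖α i‖) 2, ← Real.rpow_mul (norm_nonneg _),
      ← Real.rpow_natCast (‖α i‖) n]
    congr 1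
    push_cast
    ring
  have h := hcount k'
  calc |(SgaExt.pointCount f k' : ℝ) - ((Nat.card k : ℝ) ^ n + 1)|
      = ‖((SgaExt.pointCount f k' : ℂ) - ((Nat.card k : ℂ) ^ n + 1))‖ := by
        rw [← Real.norm_eq_abs, ← Complex.norm_real]; push_cast; rfl
    _ = ‖∑ i, α i ^ n‖ := by rw [h, sub_sub_cancel_left, norm_neg]
    _ ≤ ∑ i, ‖α i ^ n‖ := norm_sum_le _ _
    _ = 2 * g * (Nat.card k : ℝ) ^ ((n : ℝ) / 2) := by
        simp_rw [hb]; rw [Finset.sum_const, Finset.card_univ, Fintype.card_fin, nsmul_eq_mul]; push_cast; ring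

omit hK k' in
/-- Two closed points with coprime degrees. -/
theorem exists_coprime [Finite k] [GeometricallyIrreducible f] :
    ∃ x y : X, IsClosed ({x} : Set X) ∧ IsClosed ({y} : Set X) ∧ Nat.Coprime (rdeg f x) (rdeg f y) := by
  classical
  haveI : Fintype k := Fintype.ofFinite k
  haveI : PerfectField k := PerfectField.ofFinite
  letI := ffAlg f
  have hK : FunFld.IsFunctionField k X.functionField := isFunctionField hC
  set g := FunFld.genus k X.functionField with hg
  obtain ⟨α, -, hα, hpair⟩ := zeta_roots hK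
  have hex : ∀ ℓ : ℕ, ℓ.Prime → 4 * g ^ 2 ≤ ℓ → ∃ c : CP X, rdeg f c.1 ∣ ℓ := by
    intro ℓ hℓ hle
    have hne : countN hK ℓ ≠ 0 := by
      intro h0
      have h := countN_of_numer hK α hα hℓ.ne_zero
      rw [h0, Nat.cast_zero] at h
      have h1 : (1 + (Nat.card k : ℂ) ^ ℓ) = ∑ i, α i ^ ℓ := sub_eq_zero.1 h.symm
      have h2 : (1 + (Nat.card k : ℝ) ^ ℓ) ≤ ∑ i, ‖α i‖ ^ ℓ := by
        refine le_trans (le_of_eq ?_) ((norm_sum_le Finset.univ fun i => α i ^ ℓ).trans_eq
          (Finset.sum_congr rfl fun i _ => norm_pow _ _))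
        rw [← h1, show (1 + (Nat.card k : ℂ) ^ ℓ) = ((1 + Nat.card k ^ ℓ : ℕ) : ℂ) by push_cast; rfl,
          Complex.norm_natCast]
        push_cast; rfl
      have hR : ∀ i, ‖α i‖ = Real.sqrt (Nat.card k) := fun i => by
        rw [← norm_roots hK hα hpair i, Real.sqrt_sq (norm_nonneg _)]
      simp_rw [hR] at h2
      rw [Finset.sum_const, Finset.card_univ, Fintype.card_fin, nsmul_eq_mul] at h2
      have h3 : ((Nat.card k : ℝ) ^ ℓ) ^ 2 ≤ (2 * g : ℝ) ^ 2 * (Nat.card k : ℝ) ^ ℓ := by
        have hs : (Real.sqrt (Nat.card k) ^ ℓ) ^ 2 = (Nat.card k : ℝ) ^ ℓ := by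
          rw [← pow_mul, mul_comm, pow_mul, Real.sq_sqrt (Nat.cast_nonneg _)]
        calc ((Nat.card k : ℝ) ^ ℓ) ^ 2 ≤ ((2 * g : ℕ) * Real.sqrt (Nat.card k) ^ ℓ) ^ 2 :=
              pow_le_pow_left₀ (by positivity) (by linarith) 2
          _ = _ := by rw [mul_pow, hs]; push_cast; rfl
      rw [sq ((Nat.card k : ℝ) ^ ℓ)] at h3
      have h4 : (Nat.card k : ℝ) ^ ℓ ≤ (2 * g : ℝ) ^ 2 :=
        le_of_mul_le_mul_right h3 (pow_pos (Nat.cast_pos.2 Nat.card_pos) _)
      have h5 : Nat.card k ^ ℓ ≤ 4 * g ^ 2 := by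
        have : ((Nat.card k ^ ℓ : ℕ) : ℝ) ≤ ((4 * g ^ 2 : ℕ) : ℝ) := by push_cast; nlinarith
        exact_mod_cast this
      have h6 : ℓ < Nat.card k ^ ℓ := Nat.lt_pow_self Finite.one_lt_card
      omega
    obtain ⟨P, -, hP⟩ := Finset.exists_ne_zero_of_sum_ne_zero hne
    refine ⟨(pointEquiv hC).symm P, ?_⟩
    rw [← deg_placeOf hC, show placeOf hC ((pointEquiv hC).symm P) = P from (pointEquiv hC).apply_symm_apply P]
    by_contra hnd
    exact hP (if_neg hnd)
  obtain ⟨ℓ, hle, hℓ⟩ := Nat.exists_infinite_primes (4 * g ^ 2)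
  obtain ⟨ℓ', hle', hℓ'⟩ := Nat.exists_infinite_primes (ℓ + 1)
  obtain ⟨x, hx⟩ := hex ℓ hℓ hle
  obtain ⟨y, hy⟩ := hex ℓ' hℓ' (by omega)
  exact ⟨x.1, y.1, x.2, y.2, (((Nat.coprime_primes hℓ hℓ').2 (by omega)).coprime_dvd_left hx).coprime_dvd_right hy⟩

end Groth.Agent.CurveFF
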